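import Groth.Agent.ValLib.DvrProper

/-!
# Properness at a point of a closed subset, by discrete valuation rings
-/

set_option autoImplicit false
set_option linter.style.haveILetI false
set_option backward.isDefEq.respectTransparency false
set_option backward.isDefEq.respectTransparency.types false

universe u

open CategoryTheory CategoryTheory.Limits AlgebraicGeometry TopologicalSpace IsLocalRing

noncomputable section

namespace Groth.Agent.ValLib

variable {X Y : Scheme.{u}} (f : X ⟶ Y)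

theorem isProper_restrict_of_le {T : Scheme.{u}} (g : T ⟶ Y) {U U₀ : Y.Opens} (hU : U ≤ U₀)
    (h : IsProper (g ∣_ U₀)) : IsProper (g ∣_ U) := by
  have h' : IsProper (g ∣_ U₀ ∣_ (U₀.ι ⁻¹ᵁ U)) := IsZariskiLocalAtTarget.restrict (P := @IsProper) h _
  refine (MorphismProperty.arrow_mk_iso_iff @IsProper
    (morphismRestrictRestrict g U₀ _ ≪≫ morphismRestrictEq g ?_)).1 h'
  rw [Scheme.Hom.image_preimage_eq_opensRange_inf, Scheme.Opens.opensRange_ι]
  exact inf_eq_right.2 hU

theorem isProperOver_iUnion' {X S : Scheme.{u}} {p : X ⟶ S} [LocallyOfFiniteType p] {ι : Type u} [Finite ι]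
    {Z : ι → Set X} (hZ : ∀ i, ClSub.IsProperOver p (Z i)) : ClSub.IsProperOver p (Set.iUnion Z) := by
  classical
  have := Fintype.ofFinite ι
  suffices h : ∀ s : Finset ι, ClSub.IsProperOver p (⋃ i ∈ s, Z i) by simpa using h Finset.univ
  intro s
  induction s using Finset.induction with
  | empty => simpa using QCoh.isProperOver_empty (p := p)
  | insert a t _ ih =>
    rw [Finset.set_biUnion_insert]
    exact QCoh.IsProperOver.union (hZ a) ih

theorem exists_isProperOver_closure [IsLocallyNoetherian Y] [IsSeparated f] [LocallyOfFiniteType f]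
    [QuasiCompact f] (y : Y) (ξ : X) (h : ExtAt f y ξ) :
    ∃ U₀ : Y.Opens, y ∈ U₀ ∧ ∀ U : Y.Opens, U ≤ U₀ →
      ClSub.IsProperOver (f ∣_ U) ((f ⁻¹ᵁ U).ι ⁻¹' closure {ξ}) := by
  obtain ⟨V, hV, hyV⟩ : ∃ V : Y.Opens, IsAffineOpen V ∧ y ∈ V := by
    obtain ⟨_, ⟨W, hW, rfl⟩, hyW, -⟩ :=
      Y.isBasis_affineOpens.exists_subset_of_mem_open (Set.mem_univ y) isOpen_univ
    exact ⟨W, hW, hyW⟩
  by_cases hξ : f ξ ∈ V
  swap
  · refine ⟨V, hyV, fun U hU => ?_⟩
    have he : (f ⁻¹ᵁ U).ι ⁻¹' closure {ξ} = ∅ := Set.eq_empty_iff_forall_notMem.2 fun z hz =>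
      hξ (hU (((specializes_iff_mem_closure.2 hz).map f.continuous).mem_open U.2 z.2))
    rw [he]
    haveI : LocallyOfFiniteType (f ∣_ U) :=
      IsZariskiLocalAtTarget.restrict (P := @LocallyOfFiniteType) inferInstance U
    exact QCoh.isProperOver_empty
  let i := (Scheme.IdealSheafData.vanishingIdeal (Closeds.closure ({ξ} : Set X))).subschemeι
  haveI := QCoh.isIntegral_closure_point ξ
  have hr : Set.range i = closure {ξ} := H23.RedSub.range_vanishingIdeal _
  have hgen : i (genericPoint (Scheme.IdealSheafData.vanishingIdeal (Closeds.closure ({ξ} : Set X))).subscheme) = ξ := by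
    refine ((genericPoint_spec _).image i.continuous).eq ?_
    rw [Set.image_univ, hr, closure_closure]
    exact isGenericPoint_closure
  let TV := (i ≫ f) ⁻¹ᵁ V
  haveI : Nonempty TV.toScheme := ⟨⟨genericPoint _, show f (i _) ∈ V by rwa [hgen]⟩⟩
  haveI : IsIntegral TV.toScheme := isIntegral_of_isOpenImmersion TV.ι
  haveI : IsNoetherianRing Γ(Y, V) := IsLocallyNoetherian.component_noetherian ⟨V, hV⟩
  let g : TV.toScheme ⟶ Spec (CommRingCat.of Γ(Y, V)) := ((i ≫ f) ∣_ V) ≫ hV.isoSpec.hom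
  haveI : LocallyOfFiniteType ((i ≫ f) ∣_ V) := IsZariskiLocalAtTarget.restrict (P := @LocallyOfFiniteType) inferInstance V
  haveI : IsSeparated ((i ≫ f) ∣_ V) := IsZariskiLocalAtTarget.restrict (P := @IsSeparated) inferInstance V
  haveI : QuasiCompact ((i ≫ f) ∣_ V) := IsZariskiLocalAtTarget.restrict (P := @QuasiCompact) inferInstance V
  let y' : ↥(Spec (CommRingCat.of Γ(Y, V))) := hV.isoSpec.hom ⟨y, hyV⟩
  have hg : ExtAt g y' (genericPoint TV.toScheme) := by
    intro R _ _ _ g' hg'y σ hσ hσg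
    let gY : Spec (CommRingCat.of R) ⟶ Y := g' ≫ hV.isoSpec.inv ≫ V.ι
    have hgY : gY (closedPoint R) = y := by
      simp only [gY, Scheme.Hom.comp_apply, hg'y, y']
      erw [← Scheme.Hom.comp_apply hV.isoSpec.hom, Iso.hom_inv_id]
      rfl
    have hcomp : g ≫ hV.isoSpec.inv ≫ V.ι = TV.ι ≫ i ≫ f := by
      simp [g, morphismRestrict_ι, TV]
    obtain ⟨s, hs₁, hs₂⟩ := h R gY hgY (σ ≫ TV.ι ≫ i) (by
      rw [Scheme.Hom.comp_apply, Scheme.Hom.comp_apply, hσ]
      exact (congrArg i (genericPoint_eq_of_isOpenImmersion TV.ι)).trans hgen) (by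
      rw [Category.assoc, Category.assoc, ← hcomp, reassoc_of% hσg])
    have hrange : Set.range s ⊆ Set.range i := by
      rintro _ ⟨p, rfl⟩
      rw [hr]
      have h0 : s (Spec.map (CommRingCat.ofHom (algebraMap R (FractionRing R))) (closedPoint _)) = ξ := by
        rw [← Scheme.Hom.comp_apply, hs₂, Scheme.Hom.comp_apply, Scheme.Hom.comp_apply, hσ]
        exact (congrArg i (genericPoint_eq_of_isOpenImmersion TV.ι)).trans hgen
      rw [← specializes_iff_mem_closure, ← h0]
      refine Specializes.map ?_ s.continuous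
      refine (PrimeSpectrum.le_iff_specializes _ _).1 ?_
      show Ideal.comap _ _ ≤ _
      rw [show (IsLocalRing.closedPoint (FractionRing R)).asIdeal = ⊥ from
        (Ideal.eq_bot_of_prime _)]
      exact (le_of_eq ((RingHom.injective_iff_ker_eq_bot _).1
        (IsFractionRing.injective R (FractionRing R)))).trans bot_le
    obtain ⟨t, ht⟩ := H23.RedSub.exists_lift_closed s i hrange
    have hrange' : Set.range t ⊆ Set.range TV.ι := by
      rw [Scheme.Opens.range_ι]
      rintro _ ⟨p, rfl⟩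
      have hp : i (t p) = s p := by rw [← Scheme.Hom.comp_apply, ht]
      show f (i (t p)) ∈ V
      rw [hp, ← Scheme.Hom.comp_apply, hs₁]
      exact ((g' ≫ hV.isoSpec.inv) p).2
    refine ⟨IsOpenImmersion.lift TV.ι t hrange', ?_, ?_⟩
    · rw [← cancel_mono (hV.isoSpec.inv ≫ V.ι), Category.assoc, hcomp, IsOpenImmersion.lift_fac_assoc,
        reassoc_of% ht, hs₁]
    · rw [← cancel_mono TV.ι, Category.assoc, IsOpenImmersion.lift_fac, ← cancel_mono i, Category.assoc,
        ht, hs₂, Category.assoc]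
  obtain ⟨W, hyW, hW⟩ := exists_isProper_of_extAt_affine g y' hg
  refine ⟨V.ι ''ᵁ (hV.isoSpec.hom ⁻¹ᵁ W), ⟨⟨y, hyV⟩, hyW, rfl⟩, fun U hU => ?_⟩
  have h1 : IsProper ((i ≫ f) ∣_ V ∣_ (hV.isoSpec.hom ⁻¹ᵁ W)) := by
    have : IsProper (((i ≫ f) ∣_ V ≫ hV.isoSpec.hom) ∣_ W) := hW
    rw [morphismRestrict_comp ((i ≫ f) ∣_ V) hV.isoSpec.hom] at this
    exact (MorphismProperty.cancel_right_of_respectsIso @IsProper _ (hV.isoSpec.hom ∣_ W)).1 this
  have h2 := isProper_restrict_of_le (i ≫ f) hU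
    ((MorphismProperty.arrow_mk_iso_iff @IsProper (morphismRestrictRestrict (i ≫ f) V _)).1 h1)
  haveI : IsProper ((i ∣_ f ⁻¹ᵁ U) ≫ (f ∣_ U)) := by
    rw [morphismRestrict_comp] at h2
    exact h2
  haveI : LocallyOfFiniteType (f ∣_ U) :=
    IsZariskiLocalAtTarget.restrict (P := @LocallyOfFiniteType) inferInstance U
  haveI : IsClosedImmersion (i ∣_ f ⁻¹ᵁ U) := IsZariskiLocalAtTarget.restrict (P := @IsClosedImmersion) inferInstance _
  have h3 : Set.range (i ∣_ f ⁻¹ᵁ U) = (f ⁻¹ᵁ U).ι ⁻¹' closure {ξ} := by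
    rw [← hr, morphismRestrict_base]
    exact Set.range_restrictPreimage _ _
  rw [← h3]
  exact QCoh.isProperOver_range _

theorem exists_isProperOver_of_extAt [IsLocallyNoetherian Y] [IsSeparated f] [LocallyOfFiniteType f]
    [QuasiCompact f] (C : Set X) (hC : IsClosed C) (y : Y)
    (h : ∀ ξ ∈ C, (∀ z ∈ C, ξ ∈ closure {z} → z = ξ) → ExtAt f y ξ) :
    ∃ U : Y.Opens, y ∈ U ∧ ClSub.IsProperOver (f ∣_ U) ((f ⁻¹ᵁ U).ι ⁻¹' C) := by
  classical
  obtain ⟨V, hV, hyV⟩ : ∃ V : Y.Opens, IsAffineOpen V ∧ y ∈ V := by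
    obtain ⟨_, ⟨W, hW, rfl⟩, hyW, -⟩ :=
      Y.isBasis_affineOpens.exists_subset_of_mem_open (Set.mem_univ y) isOpen_univ
    exact ⟨W, hW, hyW⟩
  haveI : IsLocallyNoetherian X := LocallyOfFiniteType.isLocallyNoetherian f
  haveI : CompactSpace (f ⁻¹ᵁ V).toScheme := isCompact_iff_compactSpace.1 (f.isCompact_preimage hV.isCompact)
  haveI : IsNoetherian (f ⁻¹ᵁ V).toScheme := { toIsLocallyNoetherian := inferInstance, toCompactSpace := inferInstance }
  let C' := (f ⁻¹ᵁ V).ι ⁻¹' C
  have hC' : IsClosed C' := hC.preimage (f ⁻¹ᵁ V).ι.continuous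
  haveI : QuasiSober C' := (hC'.isClosedEmbedding_subtypeVal).quasiSober
  haveI : NoetherianSpace C' := inferInstance
  haveI : Finite (irreducibleComponents C') := NoetherianSpace.finite_irreducibleComponents.to_subtype
  have hI : ∀ T : irreducibleComponents C', IsIrreducible (T : Set C') := fun T => T.2.1
  let pt : irreducibleComponents C' → X := fun T => (f ⁻¹ᵁ V).ι ((hI T).genericPoint : C').1
  have hpt : ∀ T, ExtAt f y (pt T) := fun T => by
    refine h _ ((hI T).genericPoint : C').2 fun z hz hzs => ?_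
    have hzV : z ∈ f ⁻¹ᵁ V :=
      (specializes_iff_mem_closure.2 hzs).mem_open (f ⁻¹ᵁ V).2 ((hI T).genericPoint : C').1.2
    let z' : C' := ⟨⟨z, hzV⟩, hz⟩
    have hs : z' ⤳ (hI T).genericPoint := by
      rw [subtype_specializes_iff, (f ⁻¹ᵁ V).ι.isEmbedding.isInducing.specializes_iff.symm]
      exact specializes_iff_mem_closure.2 hzs
    have hT : IsGenericPoint (hI T).genericPoint (T : Set C') :=
      IsIrreducible.isGenericPoint_genericPoint (hI T) (isClosed_of_mem_irreducibleComponents _ T.2)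
    have hsub : (T : Set C') ⊆ closure {z'} := by
      rw [← hT.def]
      exact closure_minimal (Set.singleton_subset_iff.2 (specializes_iff_mem_closure.1 hs)) isClosed_closure
    have heq : closure {z'} = (T : Set C') :=
      (T.2.2 isIrreducible_singleton.closure hsub).antisymm hsub
    have := hT.eq (show IsGenericPoint z' (T : Set C') from heq)
    exact (congrArg (fun w : C' => (f ⁻¹ᵁ V).ι w.1) this).symm
  choose U₀ hyU hU using fun T => exists_isProperOver_closure f y (pt T) (hpt T)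
  haveI := Fintype.ofFinite (irreducibleComponents C')
  let U : Y.Opens := V ⊓ Finset.univ.inf U₀
  have hmem : y ∈ U := ⟨hyV, (Opens.coe_finset_inf _ _).ge (by simp [hyU])⟩
  refine ⟨U, hmem, ?_⟩
  haveI : LocallyOfFiniteType (f ∣_ U) :=
    IsZariskiLocalAtTarget.restrict (P := @LocallyOfFiniteType) inferInstance U
  have he : (f ⁻¹ᵁ U).ι ⁻¹' C = ⋃ T, (f ⁻¹ᵁ U).ι ⁻¹' closure {pt T} := by
    refine subset_antisymm (fun z hz => ?_) (Set.iUnion_subset fun T => Set.preimage_mono
      (closure_minimal (Set.singleton_subset_iff.2 ((hI T).genericPoint : C').2) hC))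
    let z' : C' := ⟨⟨(f ⁻¹ᵁ U).ι z, z.2.1⟩, hz⟩
    let T : irreducibleComponents C' := ⟨irreducibleComponent z', irreducibleComponent_mem_irreducibleComponents _⟩
    refine Set.mem_iUnion.2 ⟨T, ?_⟩
    have hT : z' ∈ closure ({(hI T).genericPoint} : Set C') := by
      rw [(IsIrreducible.isGenericPoint_genericPoint (hI T) (isClosed_of_mem_irreducibleComponents _ T.2)).def]
      exact mem_irreducibleComponent
    have h' := (specializes_iff_mem_closure.2 hT).map
      ((f ⁻¹ᵁ V).ι.continuous.comp continuous_subtype_val)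
    exact specializes_iff_mem_closure.1 h'
  rw [he]
  exact isProperOver_iUnion' fun T => hU T U (inf_le_right.trans (Finset.inf_le (Finset.mem_univ T)))

end Groth.Agent.ValLib
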