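import Groth.Agent.ValLib.DvrClosure

/-!
# Rational points of the generic fibre over a discrete valuation ring; properness of traces
-/

set_option autoImplicit false
set_option linter.style.haveILetI false
set_option backward.isDefEq.respectTransparency false
set_option backward.isDefEq.respectTransparency.types false

universe u

open CategoryTheory CategoryTheory.Limits AlgebraicGeometry TopologicalSpace IsLocalRing

noncomputable section

namespace Groth.Agent.ValLib

variable (R : Type u) [CommRing R] [IsDomain R] [IsDiscreteValuationRing R]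

/-- The inclusion of the generic point. -/
abbrev genIncl : Spec (CommRingCat.of (FractionRing R)) ⟶ Spec (CommRingCat.of R) :=
  Spec.map (CommRingCat.ofHom (algebraMap R (FractionRing R)))

theorem genIncl_apply : genIncl R (closedPoint (FractionRing R)) = genericPoint (Spec (CommRingCat.of R)) := by
  refine (IsGenericPoint.eq ?_ (genericPoint_spec _))
  refine Set.eq_univ_of_forall fun p => specializes_iff_mem_closure.1 ((PrimeSpectrum.le_iff_specializes _ _).1 ?_)
  show Ideal.comap _ _ ≤ _
  rw [show (closedPoint (FractionRing R)).asIdeal = ⊥ from Ideal.eq_bot_of_prime _]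
  exact (le_of_eq ((RingHom.injective_iff_ker_eq_bot _).1
    (IsFractionRing.injective R (FractionRing R)))).trans bot_le

theorem bijective_genIncl :
    Function.Bijective (Scheme.descResidueField (Scheme.stalkClosedPointTo (genIncl R))).hom := by
  let φ := (Scheme.descResidueField (Scheme.stalkClosedPointTo (genIncl R))).hom
  refine ⟨φ.injective, fun z => ?_⟩
  let St := (Spec (CommRingCat.of R)).presheaf
  let ψ : R →+* (Spec (CommRingCat.of R)).residueField (genIncl R (closedPoint (FractionRing R))) :=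
    ((Scheme.ΓSpecIso (CommRingCat.of R)).inv ≫ St.germ ⊤ _ trivial ≫
      (Spec (CommRingCat.of R)).residue _).hom
  have hψ : ∀ r, φ (ψ r) = algebraMap R (FractionRing R) r := fun r => by
    show ((Scheme.ΓSpecIso (CommRingCat.of R)).inv ≫ St.germ ⊤ _ trivial ≫
      (Spec (CommRingCat.of R)).residue _ ≫ Scheme.descResidueField (Scheme.stalkClosedPointTo (genIncl R))) r = _
    rw [Scheme.residue_descResidueField, Scheme.germ_stalkClosedPointTo_Spec]
    exact congrArg (algebraMap R (FractionRing R))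
      (ConcreteCategory.congr_hom (Scheme.ΓSpecIso (CommRingCat.of R)).inv_hom_id r)
  obtain ⟨a, b, hb, rfl⟩ := IsFractionRing.div_surjective (A := R) z
  exact ⟨ψ a / ψ b, by rw [map_div₀, hψ, hψ]⟩

variable {R} {X' : Scheme.{u}} (q : X' ⟶ Spec (CommRingCat.of R))

theorem bijective_residueFieldMap_of_section (σ : Spec (CommRingCat.of (FractionRing R)) ⟶ X')
    (hσ : σ ≫ q = genIncl R) :
    Function.Bijective (q.residueFieldMap (σ (closedPoint (FractionRing R)))).hom := by
  have h := bijective_genIncl R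
  have key : ∀ (τ : Spec (CommRingCat.of (FractionRing R)) ⟶ Spec (CommRingCat.of R)), τ = genIncl R →
      Function.Bijective (Scheme.descResidueField (Scheme.stalkClosedPointTo τ)).hom := by
    rintro _ rfl; exact h
  have h2 := key _ hσ
  rw [Scheme.descResidueField_stalkClosedPointTo_comp, CommRingCat.hom_comp, RingHom.coe_comp] at h2
  exact ⟨(q.residueFieldMap _).hom.injective, fun z => by
    obtain ⟨w, hw⟩ := h2.2 ((Scheme.descResidueField (Scheme.stalkClosedPointTo σ)).hom z)
    exact ⟨w, RingHom.injective _ hw⟩⟩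

theorem exists_section_of_bijective (x : X') (hx : q x = genericPoint (Spec (CommRingCat.of R)))
    (hb : Function.Bijective (q.residueFieldMap x).hom) :
    ∃ σ : Spec (CommRingCat.of (FractionRing R)) ⟶ X',
      σ (closedPoint (FractionRing R)) = x ∧ σ ≫ q = genIncl R := by
  have e : genIncl R (closedPoint (FractionRing R)) = q x := (genIncl_apply R).trans hx.symm
  haveI : IsIso (q.residueFieldMap x) := (ConcreteCategory.isIso_iff_bijective _).2 hb
  let φ : X'.residueField x ⟶ CommRingCat.of (FractionRing R) := inv (q.residueFieldMap x) ≫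
    ((Spec (CommRingCat.of R)).residueFieldCongr e.symm).hom ≫
      Scheme.descResidueField (Scheme.stalkClosedPointTo (genIncl R))
  refine ⟨Spec.map φ ≫ X'.fromSpecResidueField x, X'.fromSpecResidueField_apply x _, ?_⟩
  rw [Category.assoc, ← Scheme.Hom.SpecMap_residueFieldMap_fromSpecResidueField, ← Category.assoc,
    ← Spec.map_comp, IsIso.hom_inv_id_assoc, Spec.map_comp, Category.assoc,
    Scheme.residueFieldCongr_fromSpecResidueField,
    Scheme.descResidueField_stalkClosedPointTo_fromSpecResidueField]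

theorem section_comp_genIncl {σ : Spec (CommRingCat.of (FractionRing R)) ⟶ X'} (hσ : σ ≫ q = genIncl R)
    {s : Spec (CommRingCat.of R) ⟶ X'} (hs : s ≫ q = 𝟙 _)
    (hmem : σ (closedPoint (FractionRing R)) ∈ Set.range s) : genIncl R ≫ s = σ := by
  have hτ : (genIncl R ≫ s) ≫ q = genIncl R := by rw [Category.assoc, hs, Category.comp_id]
  have hx : (genIncl R ≫ s) (closedPoint (FractionRing R)) = σ (closedPoint (FractionRing R)) := by
    obtain ⟨t, ht⟩ := hmem
    have : t = genIncl R (closedPoint (FractionRing R)) := by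
      rw [← hσ, Scheme.Hom.comp_apply, ← ht, ← Scheme.Hom.comp_apply, hs]
      rfl
    rw [Scheme.Hom.comp_apply, ← this, ht]
  have hb := bijective_residueFieldMap_of_section q σ hσ
  have key : ∀ (x : X') (φ₁ φ₂ : X'.residueField x ⟶ CommRingCat.of (FractionRing R)),
      Function.Bijective (q.residueFieldMap x).hom →
      (Spec.map φ₁ ≫ X'.fromSpecResidueField x) ≫ q = (Spec.map φ₂ ≫ X'.fromSpecResidueField x) ≫ q →
      Spec.map φ₁ ≫ X'.fromSpecResidueField x = Spec.map φ₂ ≫ X'.fromSpecResidueField x := by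
    intro x φ₁ φ₂ hb h
    haveI : IsIso (q.residueFieldMap x) := (ConcreteCategory.isIso_iff_bijective _).2 hb
    rw [Category.assoc, Category.assoc, ← Scheme.Hom.SpecMap_residueFieldMap_fromSpecResidueField,
      ← Category.assoc, ← Category.assoc, ← Spec.map_comp, ← Spec.map_comp, cancel_mono] at h
    rw [cancel_epi (q.residueFieldMap x) |>.1 (Spec.map_inj.1 h)]
  have h1 := (Scheme.descResidueField_stalkClosedPointTo_fromSpecResidueField _ X' (genIncl R ≫ s)).symm
  have h2 := (Scheme.descResidueField_stalkClosedPointTo_fromSpecResidueField _ X' σ).symm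
  have gen : ∀ (a : X') (φ₁ : X'.residueField a ⟶ CommRingCat.of (FractionRing R)),
      a = σ (closedPoint (FractionRing R)) →
      ∃ φ : X'.residueField (σ (closedPoint (FractionRing R))) ⟶ CommRingCat.of (FractionRing R),
        Spec.map φ₁ ≫ X'.fromSpecResidueField a = Spec.map φ ≫ X'.fromSpecResidueField _ := by
    rintro _ φ₁ rfl; exact ⟨φ₁, rfl⟩
  obtain ⟨φ, hφ⟩ := gen _ (Scheme.descResidueField (Scheme.stalkClosedPointTo (genIncl R ≫ s))) hx
  refine (h1.trans hφ).trans ((key _ _ _ hb ?_).trans h2.symm)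
  rw [← hφ, ← h1, ← h2, hτ, hσ]

/-- Valuations whose centre is a given point lift along a subset proper over a neighbourhood. -/
theorem exists_lift_of_isProperOver {X Y : Scheme.{u}} (f : X ⟶ Y) {C : Set X} (y : Y) (U : Y.Opens)
    (hy : y ∈ U) (hP : ClSub.IsProperOver (f ∣_ U) ((f ⁻¹ᵁ U).ι ⁻¹' C))
    (g : Spec (CommRingCat.of R) ⟶ Y) (hg : g (closedPoint R) = y)
    (σ : Spec (CommRingCat.of (FractionRing R)) ⟶ X) (hσC : σ (closedPoint (FractionRing R)) ∈ C)
    (hσ : σ ≫ f = genIncl R ≫ g) :
    ∃ s : Spec (CommRingCat.of R) ⟶ X, s ≫ f = g ∧ genIncl R ≫ s = σ := by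
  obtain ⟨hC, hP⟩ := hP
  let J := Scheme.IdealSheafData.vanishingIdeal (⟨(f ⁻¹ᵁ U).ι ⁻¹' C, hC⟩ : Closeds _)
  haveI : IsProper (J.subschemeι ≫ (f ∣_ U)) := hP
  have hgU : Set.range g ⊆ Set.range U.ι := by
    rw [Scheme.Opens.range_ι]
    rintro _ ⟨p, rfl⟩
    exact ((specializes_closedPoint p).map g.continuous).mem_open U.2 (hg ▸ hy)
  let gU := IsOpenImmersion.lift U.ι g hgU
  have hgU' : gU ≫ U.ι = g := IsOpenImmersion.lift_fac _ _ _
  have hσU : Set.range σ ⊆ Set.range (f ⁻¹ᵁ U).ι := by
    rw [Scheme.Opens.range_ι]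
    rintro _ ⟨p, rfl⟩
    show f (σ p) ∈ U
    rw [← Scheme.Hom.comp_apply, hσ, ← hgU', ← Category.assoc]
    exact ((genIncl R ≫ gU) p).2
  let σU := IsOpenImmersion.lift (f ⁻¹ᵁ U).ι σ hσU
  have hσU' : σU ≫ (f ⁻¹ᵁ U).ι = σ := IsOpenImmersion.lift_fac _ _ _
  obtain ⟨τ, hτ⟩ := H23.RedSub.exists_lift_closed σU J.subschemeι (by
    rw [QCoh.range_vanishing hC]
    rintro _ ⟨p, rfl⟩
    show (f ⁻¹ᵁ U).ι (σU p) ∈ C
    rw [← Scheme.Hom.comp_apply, hσU', Subsingleton.elim p (closedPoint _)]
    exact hσC)
  have hex : ValuativeCriterion.Existence (J.subschemeι ≫ (f ∣_ U)) := by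
    have : UniversallyClosed (J.subschemeι ≫ (f ∣_ U)) := inferInstance
    rw [UniversallyClosed.eq_valuativeCriterion] at this
    exact this.1
  obtain ⟨l, hl₁, hl₂⟩ := (hex { R := R, K := FractionRing R, i₁ := τ, i₂ := gU, commSq := ⟨by
    rw [reassoc_of% hτ, ← cancel_mono U.ι, Category.assoc, Category.assoc, morphismRestrict_ι,
      reassoc_of% hσU', hgU', hσ]⟩ }).exists_lift
  dsimp only at hl₁ hl₂
  refine ⟨l ≫ J.subschemeι ≫ (f ⁻¹ᵁ U).ι, ?_, ?_⟩
  · rw [← hgU', ← hl₂]
    simp [morphismRestrict_ι]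
  · rw [reassoc_of% hl₁, reassoc_of% hτ, hσU']

end Groth.Agent.ValLib
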