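import Groth.Agent.PnCoh.Chow.Exists

/-!
# The map of Chow's construction to projective space is an immersion for separated morphisms
-/

set_option autoImplicit false
set_option linter.style.haveILetI false
set_option backward.isDefEq.respectTransparency false
set_option backward.isDefEq.respectTransparency.types false

universe u

open CategoryTheory CategoryTheory.Limits AlgebraicGeometry TopologicalSpace Opposite MvPolynomial

noncomputable section

namespace Groth.Agent.ValLib

open PnCoh.Chow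

variable {A : Type u} [CommRing A] {X : Scheme.{u}}

theorem ι_comp_eq (f : X ⟶ Spec (CommRingCat.of A)) (U : X.Opens) :
    U.ι ≫ f = U.toSpecΓ ≫ Spec.map (CommRingCat.ofHom (aHom f U)) := by
  rw [aHom, CommRingCat.ofHom_hom, Spec.map_comp, Scheme.Opens.toSpecΓ_SpecMap_appLE_assoc,
    Scheme.Opens.toSpecΓ_top, Category.assoc, Scheme.Hom.resLE_comp_ι_assoc,
    ← SpecMap_ΓSpecIso_hom, ← Spec.map_comp, Iso.inv_hom_id]
  simp

variable {f : X ⟶ Spec (CommRingCat.of A)} (D : Data f) [IsSeparated f]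

section Chart

variable (i : Fin D.m) (J : D.κ) (hJ : J i = 0)

/-- The basic open of the coordinate `J`. -/
abbrev DJ : (CohB1.ProjSpace D.N A).Opens := Proj.basicOpen (CohB1.polyGrading D.N A) (D.T J)

/-- The coordinates on `U i`. -/
def ψU : MvPolynomial (Fin (D.k i)) A →+* Γ(X, D.U i) := eval₂Hom (aHom f (D.U i)) (D.s i)

/-- The coordinates on the basic open. -/
def ψD : MvPolynomial (Fin (D.k i)) A →+* Γ(CohB1.ProjSpace D.N A, DJ D J) :=
  eval₂Hom (aHom (CohB1.ProjSpace.toSpec D.N A) (DJ D J))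
    fun a => PnCoh.Finite.ratio (D.T_mem J) (D.T_mem (Function.update J i a.succ))

/-- `U i` in affine space. -/
def tU : (D.U i).toScheme ⟶ Spec (CommRingCat.of (MvPolynomial (Fin (D.k i)) A)) :=
  (D.U i).toSpecΓ ≫ Spec.map (CommRingCat.ofHom (ψU D i))

/-- The basic open in affine space. -/
def tD : (DJ D J).toScheme ⟶ Spec (CommRingCat.of (MvPolynomial (Fin (D.k i)) A)) :=
  (DJ D J).toSpecΓ ≫ Spec.map (CommRingCat.ofHom (ψD D i J))

theorem isClosedImmersion_tU : IsClosedImmersion (tU D i) := by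
  haveI : IsClosedImmersion (Spec.map (CommRingCat.ofHom (ψU D i))) :=
    IsClosedImmersion.spec_of_surjective _ (D.hgen i)
  haveI : IsIso (D.U i).toSpecΓ := by
    rw [← (D.hU i).isoSpec_hom]; infer_instance
  exact MorphismProperty.comp_mem @IsClosedImmersion _ _ inferInstance inferInstance

include hJ in
theorem isClosedImmersion_restrict : IsClosedImmersion (D.p ∣_ DJ D J) := by
  haveI := isClosedImmersion_tU D i
  let P := CohB1.ProjSpace D.N A
  let a := D.π.resLE (D.U i) (D.O J) (D.O_le hJ)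
  let b := D.p.resLE (DJ D J) (D.O J) le_rfl
  have hab : a ≫ tU D i = b ≫ tD D i J := by
    rw [tU, tD, ← Category.assoc, ← Category.assoc, ← Scheme.Opens.toSpecΓ_SpecMap_appLE,
      ← Scheme.Opens.toSpecΓ_SpecMap_appLE, Category.assoc, Category.assoc, ← Spec.map_comp,
      ← Spec.map_comp]
    congr 2
    refine CommRingCat.hom_ext (MvPolynomial.ringHom_ext (fun c => ?_) fun c => ?_)
    · rw [CommRingCat.hom_comp, CommRingCat.hom_comp, CommRingCat.hom_ofHom, CommRingCat.hom_ofHom,
        RingHom.comp_apply, RingHom.comp_apply, ψU, ψD, eval₂Hom_C, eval₂Hom_C]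
      refine (congrArg (fun φ : A →+* _ => φ c) (aHom_comp f D.π _ _ (D.O_le hJ))).trans
        (Eq.trans ?_ (congrArg (fun φ : A →+* _ => φ c)
          (aHom_comp (CohB1.ProjSpace.toSpec D.N A) D.p _ _ (le_refl (D.O J)))).symm)
      rw [D.π_f]
    · rw [CommRingCat.hom_comp, CommRingCat.hom_comp, CommRingCat.hom_ofHom, CommRingCat.hom_ofHom,
        RingHom.comp_apply, RingHom.comp_apply, ψU, ψD, eval₂Hom_X', eval₂Hom_X']
      refine (D.π_s hJ c).trans ?_
      rw [Data.r, Scheme.Hom.app_eq_appLE]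
  let q₁ := pullback.fst (tU D i) (tD D i J)
  let q₂ := pullback.snd (tU D i) (tD D i J)
  haveI : IsClosedImmersion q₂ := MorphismProperty.pullback_snd _ _ inferInstance
  let pr₁ := pullback.fst f (CohB1.ProjSpace.toSpec D.N A)
  let pr₂ := pullback.snd f (CohB1.ProjSpace.toSpec D.N A)
  let m := pullback.lift (f := f) (g := CohB1.ProjSpace.toSpec D.N A) (q₁ ≫ (D.U i).ι) (q₂ ≫ (DJ D J).ι) (by
    rw [Category.assoc, Category.assoc, ι_comp_eq, ι_comp_eq]
    have h := congrArg (fun x => x ≫ Spec.map (CommRingCat.ofHom (MvPolynomial.C : A →+* MvPolynomial (Fin (D.k i)) A)))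
      (pullback.condition (f := tU D i) (g := tD D i J))
    simp only [tU, tD, Category.assoc, ← Spec.map_comp, ← CommRingCat.ofHom_comp] at h
    have e1 : (ψU D i).comp MvPolynomial.C = aHom f (D.U i) :=
      RingHom.ext fun c => eval₂Hom_C _ _ _
    have e2 : (ψD D i J).comp MvPolynomial.C = aHom (CohB1.ProjSpace.toSpec D.N A) (DJ D J) :=
      RingHom.ext fun c => eval₂Hom_C _ _ _
    rw [e1, e2] at h
    exact h)
  let W := (pr₁ ⁻¹ᵁ D.U i) ⊓ (pr₂ ⁻¹ᵁ DJ D J)
  have hm : Set.range m ⊆ Set.range W.ι := by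
    rw [Scheme.Opens.range_ι]
    rintro _ ⟨z, rfl⟩
    constructor
    · show pr₁ (m z) ∈ D.U i
      rw [← Scheme.Hom.comp_apply, pullback.lift_fst, Scheme.Hom.comp_apply]
      exact (q₁ z).2
    · show pr₂ (m z) ∈ DJ D J
      rw [← Scheme.Hom.comp_apply, pullback.lift_snd, Scheme.Hom.comp_apply]
      exact (q₂ z).2
  let m' := IsOpenImmersion.lift W.ι m hm
  have hW : D.ι ⁻¹ᵁ W = D.O J := by
    refine le_antisymm (fun x hx => hx.2) fun x hx => ⟨D.O_le hJ hx, hx⟩
  let c := (D.X'.isoOfEq hW).inv ≫ (D.ι ∣_ W)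
  haveI : IsClosedImmersion (D.ι ∣_ W) := IsZariskiLocalAtTarget.restrict (P := @IsClosedImmersion) inferInstance W
  haveI : IsClosedImmersion c := MorphismProperty.comp_mem @IsClosedImmersion _ _ inferInstance inferInstance
  let l := pullback.lift a b hab
  have hl : l ≫ m' = c := by
    rw [← cancel_mono W.ι, Category.assoc, IsOpenImmersion.lift_fac]
    simp only [c, Category.assoc, morphismRestrict_ι, Scheme.isoOfEq_inv_ι_assoc]
    refine pullback.hom_ext ?_ ?_
    · simp only [m, Category.assoc, pullback.lift_fst, pullback.lift_fst_assoc, l, q₁]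
      rw [Scheme.Hom.resLE_comp_ι]
      rfl
    · simp only [m, Category.assoc, pullback.lift_snd, pullback.lift_snd_assoc, l, q₂]
      rw [Scheme.Hom.resLE_comp_ι]
      rfl
  haveI : IsClosedImmersion (l ≫ m') := by rw [hl]; infer_instance
  haveI : IsSeparated m' := by
    haveI := isProper_toSpec D.N A
    haveI : IsSeparated (m' ≫ (W.ι ≫ pr₂ ≫ CohB1.ProjSpace.toSpec D.N A)) := by
      rw [IsOpenImmersion.lift_fac_assoc, pullback.lift_snd_assoc, Category.assoc]
      infer_instance
    exact IsSeparated.of_comp m' (W.ι ≫ pr₂ ≫ CohB1.ProjSpace.toSpec D.N A)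
  haveI : IsClosedImmersion l := IsClosedImmersion.of_comp l m'
  have hb : D.p ∣_ DJ D J = l ≫ q₂ := by
    rw [pullback.lift_snd]
    exact (Scheme.Hom.resLE_eq_morphismRestrict D.p).symm
  rw [hb]
  exact MorphismProperty.comp_mem @IsClosedImmersion _ _ inferInstance inferInstance

end Chart

theorem isImmersion_p : IsImmersion D.p := by
  let I := {q : Fin D.m × D.κ // q.2 q.1 = 0}
  let V : (CohB1.ProjSpace D.N A).Opens := ⨆ q : I, DJ D q.1.2
  have hV : D.p ⁻¹ᵁ V = ⊤ := top_le_iff.1 fun x _ => by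
    obtain ⟨i, J, hJ, hx⟩ := D.exists_good x
    exact Opens.mem_iSup.2 ⟨(⟨(i, J), hJ⟩ : I), hx⟩
  haveI : IsClosedImmersion (D.p ∣_ V) := by
    refine IsZariskiLocalAtTarget.of_iSup_eq_top (P := @IsClosedImmersion) (fun q : I => V.ι ⁻¹ᵁ DJ D q.1.2)
      ?_ fun q => ?_
    · rw [← Scheme.Hom.preimage_iSup]
      exact top_le_iff.1 fun x _ => x.2
    · refine (MorphismProperty.arrow_mk_iso_iff @IsClosedImmersion
        (morphismRestrictRestrict D.p V _ ≪≫ morphismRestrictEq D.p ?_)).2
        (isClosedImmersion_restrict D q.1.1 q.1.2 q.2)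
      rw [Scheme.Hom.image_preimage_eq_opensRange_inf, Scheme.Opens.opensRange_ι]
      exact inf_eq_right.2 (le_iSup (fun q : I => DJ D q.1.2) q)
  have e : D.p = D.X'.topIso.inv ≫ (D.X'.isoOfEq hV).inv ≫ (D.p ∣_ V) ≫ V.ι := by
    simp [morphismRestrict_ι]
  rw [e]
  infer_instance

end Groth.Agent.ValLib
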