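import Groth.Agent.ValLib.ChowImm
import Groth.Agent.AlgSpVal.DvrThrough
import Groth.Agent.QCoh.ProperOver2

/-!
# Properness over a neighbourhood from discrete valuation rings centred at one point
-/

set_option autoImplicit false
set_option linter.style.haveILetI false
set_option backward.isDefEq.respectTransparency false
set_option backward.isDefEq.respectTransparency.types false

universe u

open CategoryTheory CategoryTheory.Limits AlgebraicGeometry TopologicalSpace IsLocalRing

noncomputable section

namespace Groth.Agent.ValLib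

/-- Discrete valuations over `y` with generic point mapping to `ξ` extend. -/
def ExtAt {X Y : Scheme.{u}} (f : X ⟶ Y) (y : Y) (ξ : X) : Prop :=
  ∀ (R : Type u) [CommRing R] [IsDomain R] [IsDiscreteValuationRing R] (g : Spec (CommRingCat.of R) ⟶ Y),
    g (closedPoint R) = y →
    ∀ σ : Spec (CommRingCat.of (FractionRing R)) ⟶ X,
      σ (closedPoint (FractionRing R)) = ξ →
      σ ≫ f = Spec.map (CommRingCat.ofHom (algebraMap R (FractionRing R))) ≫ g →
      ∃ s : Spec (CommRingCat.of R) ⟶ X, s ≫ f = g ∧
        Spec.map (CommRingCat.ofHom (algebraMap R (FractionRing R))) ≫ s = σ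

theorem exists_isProper_of_extAt_affine {A : Type u} [CommRing A] [IsNoetherianRing A] {X : Scheme.{u}}
    [IsIntegral X] (f : X ⟶ Spec (CommRingCat.of A)) [IsSeparated f] [LocallyOfFiniteType f] [QuasiCompact f]
    (y : ↥(Spec (CommRingCat.of A))) (h : ExtAt f y (genericPoint X)) :
    ∃ U : (Spec (CommRingCat.of A)).Opens, y ∈ U ∧ IsProper (f ∣_ U) := by
  obtain ⟨D⟩ := PnCoh.Chow.exists_data f
  haveI := isImmersion_p D
  haveI := PnCoh.Chow.isProper_toSpec D.N A
  let q := CohB1.ProjSpace.toSpec D.N A
  haveI : IsLocallyNoetherian (CohB1.ProjSpace D.N A) := LocallyOfFiniteType.isLocallyNoetherian q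
  haveI : IsDominant D.π := by
    haveI : IsDominant (D.γ ≫ D.π) := by rw [D.γ_π]; infer_instance
    exact IsDominant.of_comp D.γ D.π
  haveI : Surjective D.π := ⟨Set.range_eq_univ.1 (by
    rw [← D.π.isClosedMap.isClosed_range.closure_eq, D.π.denseRange.closure_range])⟩
  let C : Set ↥(CohB1.ProjSpace D.N A) := (D.p.coborderRange : Set _)ᶜ
  by_cases hy : y ∈ q '' C
  · exfalso
    obtain ⟨c, hc, rfl⟩ := hy
    have hcl : c ∈ closure (Set.range D.p) := by
      by_contra hn
      refine hc ?_
      show c ∈ coborder (Set.range D.p)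
      simp [coborder, hn]
    have hgen : D.p (genericPoint D.X') ⤳ c := by
      refine specializes_iff_mem_closure.2 (closure_minimal ?_ isClosed_closure hcl)
      rintro _ ⟨x, rfl⟩
      exact specializes_iff_mem_closure.1
        ((genericPoint_specializes x).map D.p.continuous)
    obtain ⟨R, _, _, _, i, k, hicl, hkcl, hk⟩ :=
      AlgSpVal.exists_dvr_path_field D.p (genericPoint D.X') c hgen
    let j := Spec.map (CommRingCat.ofHom (algebraMap R (FractionRing R)))
    have hπgen : D.π (genericPoint D.X') = genericPoint X := by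
      refine ((genericPoint_spec D.X').image D.π.continuous).eq ?_
      rw [Set.image_univ, D.π.denseRange.closure_range]
      exact genericPoint_spec X
    obtain ⟨s, hs₁, hs₂⟩ := h R (i ≫ q) (by rw [Scheme.Hom.comp_apply, hicl]) (k ≫ D.π)
      (by rw [Scheme.Hom.comp_apply, hkcl, hπgen])
      (by rw [Category.assoc, D.π_f, reassoc_of% hk])
    have hex : ValuativeCriterion.Existence D.π := by
      have : UniversallyClosed D.π := inferInstance
      rw [UniversallyClosed.eq_valuativeCriterion] at this
      exact this.1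
    obtain ⟨l, hl₁, hl₂⟩ :=
      (hex { R := R, K := FractionRing R, i₁ := k, i₂ := s, commSq := ⟨hs₂.symm⟩ }).exists_lift
    dsimp only at hl₁ hl₂
    have hli : l ≫ D.p = i := by
      haveI : IsDominant j := by
        refine ⟨?_⟩
        exact (PrimeSpectrum.denseRange_comap_iff_ker_le_nilRadical _).2 (by
          rw [show (CommRingCat.ofHom (algebraMap R (FractionRing R))).hom = algebraMap R (FractionRing R) from rfl,
            (RingHom.injective_iff_ker_eq_bot _).1 (IsFractionRing.injective R (FractionRing R))]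
          exact bot_le)
      refine ext_of_isDominant_of_isSeparated q ?_ j ?_
      · rw [Category.assoc, ← D.π_f, ← Category.assoc, hl₂, hs₁]
      · rw [← Category.assoc]
        exact (congrArg (· ≫ D.p) hl₁).trans hk
    exact hc (subset_coborder ⟨l (closedPoint R), by rw [← Scheme.Hom.comp_apply, hli, hicl]⟩)
  · let U : (Spec (CommRingCat.of A)).Opens :=
      ⟨(q '' C)ᶜ, (q.isClosedMap _ D.p.coborderRange.2.isClosed_compl).isOpen_compl⟩
    refine ⟨U, hy, ?_⟩
    haveI : IsClosedImmersion (D.p ∣_ q ⁻¹ᵁ U) := by
      haveI : IsImmersion (D.p ∣_ q ⁻¹ᵁ U) := IsZariskiLocalAtTarget.restrict (P := @IsImmersion) inferInstance _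
      refine IsClosedImmersion.of_isPreimmersion _ ?_
      rw [morphismRestrict_base]
      have hC : IsClosed ((q ⁻¹ᵁ U).ι ⁻¹' Set.range D.p) := by
        refine isClosed_of_closure_subset fun z hz => ?_
        have h1 : (q ⁻¹ᵁ U).ι z ∈ closure (Set.range D.p) :=
          closure_mono (Set.image_preimage_subset _ _)
            (image_closure_subset_closure_image (q ⁻¹ᵁ U).ι.continuous ⟨z, hz, rfl⟩)
        by_contra hn
        refine z.2 ⟨_, ?_, rfl⟩
        show (q ⁻¹ᵁ U).ι z ∉ coborder (Set.range D.p)
        simp only [coborder, Set.mem_compl_iff, Set.mem_diff, not_not]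
        exact ⟨h1, hn⟩
      convert hC using 1
      rw [Set.range_restrictPreimage]
      rfl
    haveI : IsProper (q ∣_ U) := IsZariskiLocalAtTarget.restrict (P := @IsProper) inferInstance U
    have hpq : IsProper ((D.p ≫ q) ∣_ U) := by
      rw [morphismRestrict_comp]
      exact MorphismProperty.comp_mem @IsProper _ _ inferInstance inferInstance
    have hπf : IsProper ((D.π ≫ f) ∣_ U) := by
      rw [D.π_f]
      exact hpq
    haveI : IsProper ((D.π ∣_ f ⁻¹ᵁ U) ≫ (f ∣_ U)) := by
      rw [morphismRestrict_comp] at hπf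
      exact hπf
    haveI : UniversallyClosed (D.π ∣_ f ⁻¹ᵁ U) := IsZariskiLocalAtTarget.restrict (P := @UniversallyClosed) inferInstance _
    haveI : Surjective (D.π ∣_ f ⁻¹ᵁ U) := IsZariskiLocalAtTarget.restrict (P := @Surjective) inferInstance _
    haveI : LocallyOfFiniteType (f ∣_ U) := IsZariskiLocalAtTarget.restrict (P := @LocallyOfFiniteType) inferInstance _
    exact QCoh.isProper_of_comp_surjective (D.π ∣_ f ⁻¹ᵁ U) (f ∣_ U)

end Groth.Agent.ValLib
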